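import Cfsg.Agent.SLThree.Decomp.Full
import Cfsg.Agent.MaxSub.Decomposition

/-!
# The stabiliser of three independent lines is maximal in `SL₃ (q)`, `q ≥ 5`
-/

set_option autoImplicit false

namespace CfsgLib.SLThree.Decomp

open Matrix Cfsg.Geo CfsgLib.MaxSub CfsgLib.MaxSub.Monomial

variable {F : Type*} [Field F] [Fintype F]

/-- The lines of a decomposition are spanned by the columns of an invertible matrix. -/
theorem exists_lines {D : Fin 3 → Submodule F (Fin 3 → F)} (hD : IsMDecomposition 1 D) :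
    ∃ P : GL (Fin 3) F, ∀ i, D i = Submodule.span F {(P : Matrix (Fin 3) (Fin 3) F) *ᵥ Pi.single i 1} := by
  obtain ⟨b, a, hb, hab, -, -⟩ := exists_decompCoords hD
  have h : (Matrix.of fun i x => a i 0 x : Matrix (Fin 3) (Fin 3) F) *
      (Matrix.of fun x i => b i 0 x : Matrix (Fin 3) (Fin 3) F) = 1 := by
    ext i j
    have h' := hab i j 0 0
    simp only [and_true] at h'
    rw [Matrix.mul_apply, Matrix.one_apply, ← h']
    rfl
  refine ⟨⟨_, _, mul_eq_one_comm.1 h, h⟩, fun i => ?_⟩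
  have e : (Matrix.of fun x i => b i 0 x : Matrix (Fin 3) (Fin 3) F) *ᵥ Pi.single i 1 = b i 0 := by
    rw [mulVec_single_one]; rfl
  show D i = Submodule.span F {(Matrix.of fun x i => b i 0 x : Matrix (Fin 3) (Fin 3) F) *ᵥ Pi.single i 1}
  rw [e]
  have hne : b i 0 ≠ 0 := fun h0 => by simpa [h0] using hab i i 0 0
  exact (Submodule.eq_of_le_of_finrank_le
    ((Submodule.span_singleton_le_iff_mem _ _).2 (hb i 0))
    (by rw [hD.finrank_eq, finrank_span_singleton hne])).symm

theorem stab_iff {D : Fin 3 → Submodule F (Fin 3 → F)} {P : GL (Fin 3) F}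
    (hP : ∀ i, D i = Submodule.span F {(P : Matrix (Fin 3) (Fin 3) F) *ᵥ Pi.single i 1}) (g : GL (Fin 3) F) :
    g ∈ decompositionStabilizer D ↔ Mono (P⁻¹ * g * P) := by
  have hval : ∀ x : Fin 3 → F, (g : Matrix (Fin 3) (Fin 3) F) *ᵥ ((P : Matrix (Fin 3) (Fin 3) F) *ᵥ x) =
      (P : Matrix (Fin 3) (Fin 3) F) *ᵥ (((P⁻¹ * g * P : GL (Fin 3) F) : Matrix (Fin 3) (Fin 3) F) *ᵥ x) := by
    intro x
    rw [mulVec_mulVec, mulVec_mulVec, ← Units.val_mul, ← Units.val_mul]
    congr 2
    group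
  constructor
  · rintro ⟨π, hπ⟩
    refine ⟨π, fun p r hpr => by_contra fun hne => hpr ?_⟩
    have hmem : (g : Matrix (Fin 3) (Fin 3) F) *ᵥ ((P : Matrix (Fin 3) (Fin 3) F) *ᵥ Pi.single r 1) ∈ D (π r) := by
      rw [← hπ r, hP r]
      exact ⟨_, Submodule.mem_span_singleton_self _, by rw [toLin'_apply]⟩
    rw [hP (π r), Submodule.mem_span_singleton] at hmem
    obtain ⟨c, hc⟩ := hmem
    rw [hval, ← mulVec_smul] at hc
    have h := congrFun (mulVec_injective_iff_isUnit.mpr P.isUnit hc) p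
    rw [mulVec_single_one, col_apply] at h
    rw [← h]
    simp [hne]
  · intro h
    obtain ⟨π, d, hd⟩ := h.eq_monEl
    refine ⟨π, fun i => Submodule.eq_of_le_of_finrank_le ?_ ?_⟩
    · rw [Submodule.map_le_iff_le_comap, hP i, Submodule.span_singleton_le_iff_mem, Submodule.mem_comap,
        toLin'_apply, hval, hd, monEl_single, mulVec_smul, hP (π i)]
      exact Submodule.smul_mem _ _ (Submodule.mem_span_singleton_self _)
    · have hne : ∀ i, (P : Matrix (Fin 3) (Fin 3) F) *ᵥ Pi.single i 1 ≠ 0 := fun i h0 => by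
        have := mulVec_injective_iff_isUnit.mpr P.isUnit (h0.trans (mulVec_zero _).symm)
        simpa using congrFun this i
      rw [finrank_map_gl', hP, hP, finrank_span_singleton (hne _), finrank_span_singleton (hne _)]

/-- **The stabiliser of three independent lines is maximal in `SL₃ (q)` for `q ≥ 5`.** -/
theorem isMaximalIn_decomposition₃ (hq : 5 ≤ Fintype.card F) {D : Fin 3 → Submodule F (Fin 3 → F)}
    (hD : IsMDecomposition 1 D) :
    IsMaximalIn (specialLinear (Fin 3) F) (decompositionStabilizer D ⊓ specialLinear (Fin 3) F) := by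
  obtain ⟨P, hP⟩ := exists_lines hD
  haveI : (specialLinear (Fin 3) F).Normal := MonoidHom.normal_ker _
  have hdet : ∀ x : GL (Fin 3) F, x ∈ specialLinear (Fin 3) F ↔ (x : Matrix (Fin 3) (Fin 3) F).det = 1 := fun x => by
    rw [specialLinear, MonoidHom.mem_ker, Units.ext_iff, Matrix.GeneralLinearGroup.val_det_apply, Units.val_one]
  refine isMaximalIn_of inf_le_right ?_ fun M hHM hMK g hg hg' => ?_
  · refine ⟨P * tv (Pi.single 0 1) (Pi.single 1 1) * P⁻¹,
      Subgroup.Normal.conj_mem inferInstance _ (tv_mem_specialLinear _ _) P, fun h => ?_⟩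
    obtain ⟨π, hπ⟩ := (stab_iff hP _).1 h.1
    rw [show P⁻¹ * (P * tv (Pi.single (0 : Fin 3) (1 : F)) (Pi.single 1 1) * P⁻¹) * P =
      tv (Pi.single 0 1) (Pi.single 1 1) by group] at hπ
    have e : (tv (Pi.single (0 : Fin 3) (1 : F)) (Pi.single 1 1) : Matrix (Fin 3) (Fin 3) F) =
        1 + vecMulVec (Pi.single 0 1) (Pi.single 1 1) := tv_coe (by simp)
    exact absurd ((hπ 0 1 (by rw [e]; simp [vecMulVec_apply])).trans
      (hπ 1 1 (by rw [e]; simp [vecMulVec_apply])).symm) (by decide)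
  set c := (MulAut.conj P).toMonoidHom with hc
  have hcapp : ∀ x, c x = P * x * P⁻¹ := fun x => rfl
  have hMS : ∀ x ∈ M.comap c, (x : Matrix (Fin 3) (Fin 3) F).det = 1 := fun x hx => by
    have h := Subgroup.Normal.conj_mem (inferInstance : (specialLinear (Fin 3) F).Normal) _
      (hMK (Subgroup.mem_comap.1 hx)) P⁻¹
    rw [hcapp, show P⁻¹ * (P * x * P⁻¹) * P⁻¹⁻¹ = x by group] at h
    exact (hdet x).1 h
  have hM : MonoIn (M.comap c) := fun x hx hd => hHM ⟨(stab_iff hP _).2 (by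
    rw [show P⁻¹ * c x * P = x by rw [hcapp]; group]; exact hx),
    Subgroup.Normal.conj_mem inferInstance _ ((hdet x).2 hd) P⟩
  by_contra hn
  have hno : ¬ specialLinear (Fin 3) F ≤ M.comap c := fun h => hn fun x hx => by
    have := Subgroup.mem_comap.1 (h (Subgroup.Normal.conj_mem inferInstance _ hx P⁻¹))
    rwa [hcapp, show P * (P⁻¹ * x * P⁻¹⁻¹) * P⁻¹ = x by group] at this
  refine hg' ⟨(stab_iff hP g).2 (mono_of_mem hq hM hMS hno ?_), hMK hg⟩
  rw [Subgroup.mem_comap, hcapp, show P * (P⁻¹ * g * P) * P⁻¹ = g by group]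
  exact hg

end CfsgLib.SLThree.Decomp
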