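import Cfsg.Agent.SLThree.Basic
import Cfsg.Agent.MaxSub.Monomial
import Mathlib.Algebra.Field.ZMod
import Mathlib.LinearAlgebra.Matrix.Notation

/-!
# Overgroups of the monomial group of `SL₃ (q)`, `q ≥ 5`: fixing a coordinate point

A subgroup containing the monomial matrices of determinant one and a non-monomial matrix with a column
with one non-zero entry is everything.
-/

set_option autoImplicit false
set_option linter.unusedSectionVars false

namespace CfsgLib.SLThree.Decomp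

open Matrix Cfsg.Geo CfsgLib.MaxSub CfsgLib.MaxSub.Monomial

theorem exists_others : ∀ k : Fin 3, ∃ j o : Fin 3, k ≠ j ∧ k ≠ o ∧ j ≠ o := by decide

theorem exists_third : ∀ i k : Fin 3, ∃ j : Fin 3, i ≠ j ∧ k ≠ j := by decide

theorem five_word : (!![2, 0, 0; 0, 1, 1; 0, 1, -1] * !![0, 1, 0; 1, 0, 0; 0, 0, 4] * !![2, 0, 0; 0, 1, 1; 0, 1, -1] *
    !![0, 1, 0; 1, 0, 0; 0, 0, 4] * !![2, 0, 0; 0, 1, 1; 0, 1, -1] * !![0, 1, 0; 2, 0, 0; 0, 0, 2] *
    !![2, 0, 0; 0, 1, 1; 0, 1, -1] : Matrix (Fin 3) (Fin 3) (ZMod 5)) = !![2, 3, 0; 4, 4, 2; 2, 4, 0] := by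
  decide +kernel

variable {F : Type*} [Field F] [Fintype F] {M : Subgroup (GL (Fin 3) F)}

/-- A diagonal element. -/
def dg (a b c : Fˣ) : GL (Fin 3) F := monEl 1 ![a, b, c]

theorem dg_val (a b c : Fˣ) :
    (dg a b c : Matrix (Fin 3) (Fin 3) F) = !![(a : F), 0, 0; 0, (b : F), 0; 0, 0, (c : F)] := by
  ext i j
  fin_cases i <;> fin_cases j <;> simp [dg, monEl_apply]

theorem dg_inv_val (a b c : Fˣ) : (((dg a b c)⁻¹ : GL (Fin 3) F) : Matrix (Fin 3) (Fin 3) F) =
    !![(a : F)⁻¹, 0, 0; 0, (b : F)⁻¹, 0; 0, 0, (c : F)⁻¹] := by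
  rw [show (dg a b c)⁻¹ = dg a⁻¹ b⁻¹ c⁻¹ from inv_eq_of_mul_eq_one_right (Units.ext (by
    rw [Units.val_mul, dg_val, dg_val]
    ext i j
    fin_cases i <;> fin_cases j <;> simp [Matrix.mul_apply, Fin.sum_univ_three])), dg_val]
  simp

theorem dg_mem (hM : MonoIn M) {a b c : Fˣ} (h : a * b * c = 1) : dg a b c ∈ M := by
  refine hM _ (mono_monEl _ _) ?_
  rw [dg_val, det_fin_three]
  simp only [of_apply, cons_val', cons_val_zero, cons_val_one, cons_val, empty_val', cons_val_fin_one]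
  have := congrArg Units.val h
  push_cast at this
  linear_combination this

theorem exists_pow_ne_one {n : ℕ} (hn : 0 < n) (h : n + 1 < Fintype.card F) : ∃ u : Fˣ, u ^ n ≠ 1 := by
  obtain ⟨g, hg⟩ := IsCyclic.exists_ofOrder_eq_natCard (α := Fˣ)
  refine ⟨g, fun he => ?_⟩
  have := Nat.le_of_dvd hn (orderOf_dvd_of_pow_eq_one he)
  rw [hg, Nat.card_units, Nat.card_eq_fintype_card] at this
  omega

variable (hq : 5 ≤ Fintype.card F) (hM : MonoIn M)

include hq hM

theorem irreducible_of_monoIn : MaxSub.Irreducible M := by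
  intro W hW
  refine or_iff_not_imp_left.2 fun hne => eq_top_iff.2 fun y _ => ?_
  obtain ⟨w, hw, hw0⟩ := Submodule.exists_mem_ne_zero_of_ne_bot hne
  obtain ⟨k, hk⟩ := Function.ne_iff.1 hw0
  obtain ⟨l, hl⟩ := exists_pow_ne_one (F := F) (n := 1) one_pos (by omega)
  rw [pow_one] at hl
  have hstep : ∀ {i j : Fin 3}, i ≠ j → ∀ {x : Fin 3 → F}, x ∈ W →
      (fun p => ((if p = i then (l : F) else if p = j then (l : F)⁻¹ else 1) - 1) * x p) ∈ W := by
    intro i j hij x hx
    have h := W.sub_mem (hW _ (pairDiag_mem hM hij l) x hx) hx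
    convert h using 1
    funext p
    rw [Pi.sub_apply, pairDiag_mulVec]
    ring
  obtain ⟨j, o, hjk, hok, hjo⟩ := exists_others k
  have h1 := hstep hjk hw
  have h2 := hstep hok h1
  have hl1 : (l : F) - 1 ≠ 0 := sub_ne_zero.2 fun h => hl (Units.ext h)
  have hek : (Pi.single k 1 : Fin 3 → F) ∈ W := by
    have h3 := W.smul_mem ((((l : F) - 1) * (((l : F) - 1) * w k))⁻¹) h2
    convert h3 using 1
    funext p
    simp only [Pi.smul_apply, smul_eq_mul]
    by_cases hp : p = k
    · subst hp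
      rw [Pi.single_eq_same, if_pos rfl, if_pos rfl, inv_mul_cancel₀ (mul_ne_zero hl1 (mul_ne_zero hl1 (show w _ ≠ 0 from hk)))]
    · rw [Pi.single_eq_of_ne hp, if_neg hp]
      by_cases hpo : p = o
      · subst hpo
        rw [if_neg hp, if_neg (Ne.symm hjo)]
        simp
      · rw [if_neg hpo]
        simp
  have hall : ∀ i, (Pi.single i 1 : Fin 3 → F) ∈ W := by
    intro i
    obtain ⟨d, hd⟩ := exists_perm_mem hM (Equiv.swap k i)
    have h := W.smul_mem ((d k : F))⁻¹ (hW _ hd _ hek)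
    rwa [monEl_single, Equiv.swap_apply_left, inv_smul_smul₀ (d k).ne_zero] at h
  rw [pi_eq_sum_univ' y]
  exact W.sum_mem fun i _ => W.smul_mem _ (hall i)

/-- An elementary transvection gives its root group. -/
theorem le_of_elementary {i k : Fin 3} (hik : i ≠ k) {a : F} (ha : a ≠ 0)
    (h : tv (Pi.single i 1) (a • (Pi.single k 1 : Fin 3 → F)) ∈ M) : specialLinear (Fin 3) F ≤ M := by
  refine specialLinear_le_of_rootIn (v := Pi.single i 1) (a := Pi.single k 1)
    (irreducible_of_monoIn hq hM) (by simp) (by simp)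
    ⟨by simp [Ne.symm hik], fun c => ?_⟩
  rcases eq_or_ne c 0 with rfl | hc
  · rw [zero_smul, tv_zero_left]; exact M.one_mem
  obtain ⟨j, hij, hkj⟩ := exists_third i k
  set l : Fˣ := Units.mk0 (c / a) (div_ne_zero hc ha) with hl
  have h1 := M.mul_mem (M.mul_mem (pairDiag_mem hM hij l) h) (M.inv_mem (pairDiag_mem hM hij l))
  rw [conj_tv] at h1
  have e1 : (pairDiag i j l : Matrix (Fin 3) (Fin 3) F) *ᵥ Pi.single i 1 = (l : F) • Pi.single i 1 := by
    funext p
    rw [pairDiag_mulVec, Pi.smul_apply, smul_eq_mul]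
    by_cases hp : p = i
    · subst hp; simp
    · simp [hp]
  have e2 : (a • (Pi.single k 1 : Fin 3 → F)) ᵥ*
      (((pairDiag i j l)⁻¹ : GL (Fin 3) F) : Matrix (Fin 3) (Fin 3) F) = a • Pi.single k 1 := by
    funext p
    rw [vecMul_pairDiag_inv, Pi.smul_apply, smul_eq_mul]
    by_cases hp : p = k
    · subst hp; simp [Ne.symm hik, hkj]
    · simp [hp]
  rw [e1, e2, tv_smul_right, smul_smul] at h1
  simpa [hl, mul_div_cancel₀ _ ha, mul_comm, div_mul_cancel₀ _ ha] using h1

/-- A transvection with a coordinate centre gives everything. -/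
theorem le_of_centre {a : Fin 3 → F} (ha0 : a 0 = 0) (ha : a ≠ 0)
    (h : tv (Pi.single 0 1) a ∈ M) : specialLinear (Fin 3) F ≤ M := by
  by_cases h1 : a 1 = 0
  · refine le_of_elementary hq hM (i := 0) (k := 2) (by decide) (a := a 2) (fun h2 => ha ?_) ?_
    · funext p; fin_cases p <;> simp [ha0, h1, h2]
    · convert h using 2
      funext p; fin_cases p <;> simp [ha0, h1]
  by_cases h2 : a 2 = 0
  · refine le_of_elementary hq hM (i := 0) (k := 1) (by decide) (a := a 1) h1 ?_
    convert h using 2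
    funext p; fin_cases p <;> simp [ha0, h2]
  obtain ⟨w, hw⟩ := exists_pow_ne_one (F := F) (n := 3) (by norm_num) (by omega)
  have ht : dg w w (w ^ 2)⁻¹ ∈ M := dg_mem hM (by rw [← pow_two, mul_inv_cancel])
  have h3 := M.mul_mem (M.mul_mem ht h) (M.inv_mem ht)
  have hdot : ∀ {b : Fin 3 → F}, b 0 = 0 → b ⬝ᵥ (Pi.single 0 1 : Fin 3 → F) = 0 := fun hb => by simp [hb]
  rw [conj_tv, dg_inv_val, show (dg w w (w ^ 2)⁻¹ : Matrix (Fin 3) (Fin 3) F) *ᵥ Pi.single 0 1 =
      (w : F) • Pi.single 0 1 by rw [dg_val]; funext p; fin_cases p <;> simp, ← tv_smul_right] at h3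
  have hb0 : ∀ N : Matrix (Fin 3) (Fin 3) F, N = !![(w : F)⁻¹, 0, 0; 0, (w : F)⁻¹, 0; 0, 0, (((w ^ 2)⁻¹ : Fˣ) : F)⁻¹] →
      (w : F) • (a ᵥ* N) = ![0, a 1, a 2 * (w : F) ^ 3] := by
    rintro N rfl
    funext p
    have := w.ne_zero
    rw [Pi.smul_apply, Matrix.vecMul, dotProduct, Fin.sum_univ_three]
    fin_cases p <;> simp [ha0] <;> (try field_simp)
  rw [hb0 _ rfl] at h3
  have h4 := tv_mem_add_right (a := ![0, a 1, a 2 * (w : F) ^ 3]) (b := -a)
    (hdot (by simp)) (hdot (by simp [ha0])) h3 (by rw [tv_neg_right, ← tv_inv]; exact M.inv_mem h)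
  refine le_of_elementary hq hM (i := 0) (k := 2) (by decide) (a := a 2 * ((w : F) ^ 3 - 1))
    (mul_ne_zero h2 (sub_ne_zero.2 fun e => hw (Units.ext (by simpa using e)))) ?_
  convert h4 using 2
  funext p
  fin_cases p <;> simp [ha0] <;> ring

/-- Normal forms by monomial factors. -/
theorem exists_normal {g : GL (Fin 3) F} (hg : g ∈ M) (π ρ : Equiv.Perm (Fin 3)) :
    ∃ (g' : GL (Fin 3) F) (dl dr : Fin 3 → Fˣ), g' ∈ M ∧ (Mono g' → Mono g) ∧
      ∀ p r, (g' : Matrix (Fin 3) (Fin 3) F) p r = dl p * (g : Matrix (Fin 3) (Fin 3) F) (π p) (ρ r) * dr r := by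
  obtain ⟨d, hd⟩ := exists_perm_mem hM π⁻¹
  obtain ⟨d', hd'⟩ := exists_perm_mem hM ρ
  refine ⟨monEl π⁻¹ d * g * monEl ρ d', fun p => d (π p), d', M.mul_mem (M.mul_mem hd hg) hd', fun h => ?_,
    fun p r => ?_⟩
  · have := ((mono_monEl π⁻¹ d).inv.mul h).mul (mono_monEl ρ d').inv
    simpa [mul_assoc] using this
  · have h1 : ((monEl π⁻¹ d * g * monEl ρ d' : GL (Fin 3) F) : Matrix (Fin 3) (Fin 3) F) p r =
        (((monEl π⁻¹ d * g * monEl ρ d' : GL (Fin 3) F) : Matrix (Fin 3) (Fin 3) F) *ᵥ Pi.single r 1) p := by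
      rw [mulVec_single_one]; rfl
    rw [h1, Units.val_mul, Units.val_mul, ← mulVec_mulVec, monEl_single, mulVec_smul, Pi.smul_apply,
      ← mulVec_mulVec, monEl_mulVec, mulVec_single_one, smul_eq_mul]
    simp only [col_apply, show π⁻¹.symm p = π p from rfl]
    ring

/-- A column with one entry in a row with another one gives everything. -/
theorem le_of_col_row {g : GL (Fin 3) F} (hg : g ∈ M) {i j : Fin 3}
    (hcol : ∀ p, p ≠ i → (g : Matrix (Fin 3) (Fin 3) F) p j = 0) {r : Fin 3} (hr : r ≠ j)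
    (hrow : (g : Matrix (Fin 3) (Fin 3) F) i r ≠ 0) : specialLinear (Fin 3) F ≤ M := by
  obtain ⟨g', dl, dr, hg', -, hent⟩ := exists_normal hq hM hg (Equiv.swap 0 i) (Equiv.swap 0 j)
  set G := (g' : Matrix (Fin 3) (Fin 3) F) with hG
  have hcol' : ∀ p, p ≠ 0 → G p 0 = 0 := fun p hp => by
    rw [hent, Equiv.swap_apply_left, hcol _ fun h => hp ((Equiv.swap 0 i).injective
      (h.trans (Equiv.swap_apply_left 0 i).symm)), mul_zero, zero_mul]
  have hrow' : G 0 (Equiv.swap 0 j r) ≠ 0 := by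
    rw [hent, Equiv.swap_apply_left, Equiv.swap_apply_self]
    exact mul_ne_zero (mul_ne_zero (Units.ne_zero _) hrow) (Units.ne_zero _)
  have hr' : Equiv.swap 0 j r ≠ 0 := fun h => hr ((Equiv.swap 0 j).injective
    (h.trans (Equiv.swap_apply_right 0 j).symm))
  obtain ⟨u, hu⟩ := exists_pow_ne_one (F := F) (n := 3) (by norm_num) (by omega)
  set z := dg (u ^ 2)⁻¹ u u with hz
  have hzm : z ∈ M := dg_mem hM (by rw [mul_assoc, ← pow_two, inv_mul_cancel])
  set c : F := (((u ^ 2)⁻¹ : Fˣ) : F) / u with hc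
  have hc1 : c - 1 ≠ 0 := by
    refine sub_ne_zero.2 fun h => hu (Units.ext ?_)
    rw [hc, div_eq_one_iff_eq u.ne_zero] at h
    have h0 := congrArg (fun x => ((u ^ 2 : Fˣ) : F) * x) h
    simp only [← Units.val_mul, mul_inv_cancel, Units.val_one] at h0
    simpa [pow_succ] using h0.symm
  set r0 : Fin 3 → F := (c - 1) • ![0, G 0 1, G 0 2] with hr0
  have hconj : (z : Matrix (Fin 3) (Fin 3) F) * G * ((z⁻¹ : GL (Fin 3) F) : Matrix (Fin 3) (Fin 3) F) =
      G + vecMulVec (Pi.single 0 1) r0 := by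
    rw [hz, dg_val, dg_inv_val]
    have := u.ne_zero
    ext p q
    fin_cases p <;> fin_cases q <;>
      simp [Matrix.mul_apply, Matrix.vecMul, dotProduct, Fin.sum_univ_three, vecMulVec_apply, hr0, hc, hcol' 1 (by decide),
        hcol' 2 (by decide)] <;> (try field_simp) <;> (try ring)
  have hdot : (r0 ᵥ* ((g'⁻¹ : GL (Fin 3) F) : Matrix (Fin 3) (Fin 3) F)) ⬝ᵥ (Pi.single 0 1 : Fin 3 → F) = 0 := by
    have hfix : G *ᵥ Pi.single 0 1 = G 0 0 • (Pi.single 0 1 : Fin 3 → F) := by
      funext p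
      fin_cases p <;> simp [hcol' 1 (by decide), hcol' 2 (by decide)]
    have h2 := congrArg (fun x => r0 ⬝ᵥ (((g'⁻¹ : GL (Fin 3) F) : Matrix (Fin 3) (Fin 3) F) *ᵥ x)) hfix
    simp only [hG, mulVec_mulVec, Units.inv_mul, one_mulVec, mulVec_smul, dotProduct_smul, smul_eq_mul] at h2
    rw [← dotProduct_mulVec]
    refine (mul_eq_zero.1 (h2.symm.trans (by simp [hr0]))).resolve_left fun h0 => ?_
    simp only [hG] at hfix
    rw [h0, zero_smul] at hfix
    have h3 := congrArg (fun x => ((g'⁻¹ : GL (Fin 3) F) : Matrix (Fin 3) (Fin 3) F) *ᵥ x) hfix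
    simp only [hG, mulVec_mulVec, Units.inv_mul, one_mulVec, mulVec_zero] at h3
    simpa using congrFun h3 0
  refine le_of_centre hq hM (a := r0 ᵥ* ((g'⁻¹ : GL (Fin 3) F) : Matrix (Fin 3) (Fin 3) F))
    (by simpa using hdot) (fun h0 => ?_) ?_
  · have h1 := congrArg (· ᵥ* G) h0
    simp only [hG, vecMul_vecMul, Units.inv_mul, vecMul_one, zero_vecMul] at h1
    rw [hr0, smul_eq_zero] at h1
    have h2 := congrFun (h1.resolve_left hc1) (Equiv.swap 0 j r)
    generalize Equiv.swap 0 j r = s at hr' hrow' h2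
    fin_cases s <;> simp_all
  · convert M.mul_mem (M.mul_mem (M.mul_mem hzm hg') (M.inv_mem hzm)) (M.inv_mem hg') using 1
    apply Units.ext
    rw [tv_coe hdot, Units.val_mul, Units.val_mul, Units.val_mul, hconj, Matrix.add_mul, hG, Units.mul_inv,
      vecMulVec_mul]

/-- A block with non-zero entries, not of the exceptional shape. -/
theorem le_of_block {g : GL (Fin 3) F} (hg : g ∈ M) {A a b c d : F}
    (hgv : (g : Matrix (Fin 3) (Fin 3) F) = !![A, 0, 0; 0, a, b; 0, c, d])
    (ha : a ≠ 0) (hb : b ≠ 0) (hc : c ≠ 0) (hd : d ≠ 0) (hρ : b * c + a * d ≠ 0) :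
    specialLinear (Fin 3) F ≤ M := by
  have hdet : A * (a * d - b * c) ≠ 0 := by
    have h : (g : Matrix (Fin 3) (Fin 3) F).det ≠ 0 :=
      (Matrix.isUnit_iff_isUnit_det _ |>.1 g.isUnit).ne_zero
    rw [hgv, det_fin_three] at h
    intro e
    apply h
    simp
    linear_combination e
  have hA := left_ne_zero_of_mul hdet
  have hD := right_ne_zero_of_mul hdet
  set D := a * d - b * c with hDdef
  have hinv : ((g⁻¹ : GL (Fin 3) F) : Matrix (Fin 3) (Fin 3) F) =
      !![A⁻¹, 0, 0; 0, d / D, -b / D; 0, -c / D, a / D] := by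
    refine Units.inv_eq_of_mul_eq_one_right ?_
    rw [hgv]
    ext p q
    fin_cases p <;> fin_cases q <;> simp [Matrix.mul_apply, Fin.sum_univ_three, hA] <;>
      field_simp <;> first | ring | (rw [hDdef]; ring)
  set x : Fˣ := Units.mk0 (b * c / (a * d)) (by simp [ha, hb, hc, hd]) with hx
  have ht : dg x⁻¹ x 1 ∈ M := dg_mem hM (by simp)
  set k := g * dg x⁻¹ x 1 * g⁻¹ with hk
  have hkv : (k : Matrix (Fin 3) (Fin 3) F) = !![(x : F)⁻¹, 0, 0; 0, 0, -(a * b) * ((x : F) - 1) / D;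
      0, c * d * ((x : F) - 1) / D, (a * d - b * c * (x : F)) / D] := by
    rw [hk, Units.val_mul, Units.val_mul, hgv, dg_val, hinv]
    ext p q
    fin_cases p <;> fin_cases q <;> simp [Matrix.mul_apply, Fin.sum_univ_three, hx] <;> field_simp <;> ring
  refine le_of_col_row hq hM (M.mul_mem (M.mul_mem hg ht) (M.inv_mem hg)) (i := 2) (j := 1) (r := 2)
    ?_ (by decide) ?_
  · intro p hp
    rw [← hk, hkv]
    fin_cases p <;> simp at hp ⊢
  · rw [← hk, hkv]
    simp only [hx, Units.val_mk0]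
    simp only [of_apply, cons_val', cons_val, cons_val_fin_one]
    refine div_ne_zero (fun h => hρ ?_) hD
    field_simp at h
    exact (mul_eq_zero.1 (show D * (b * c + a * d) = 0 by rw [hDdef]; linear_combination h)).resolve_left hD

/-- The exceptional block for five elements. -/
theorem le_of_five (h5 : Fintype.card F = 5) {g : GL (Fin 3) F} (hg : g ∈ M)
    (hgv : (g : Matrix (Fin 3) (Fin 3) F) = !![2, 0, 0; 0, 1, 1; 0, 1, -1]) :
    specialLinear (Fin 3) F ≤ M := by
  haveI : Fact (Nat.Prime 5) := ⟨by norm_num⟩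
  haveI : CharP F 5 := by
    obtain ⟨p, hp⟩ := CharP.exists F
    obtain ⟨n, hpp, hn⟩ := FiniteField.card F p
    have hdvd : p ∣ 5 := by rw [← h5, hn]; exact dvd_pow_self p n.ne_zero
    rwa [(Nat.prime_dvd_prime_iff_eq hpp (by norm_num)).1 hdvd] at hp
  set f := ZMod.castHom (dvd_refl 5) F
  have hne : ∀ n : ℕ, n % 5 ≠ 0 → ((n : F) ≠ 0) := fun n hn h =>
    hn (Nat.dvd_iff_mod_eq_zero.1 ((CharP.cast_eq_zero_iff F 5 n).1 h))
  have h2 : (2 : F) ≠ 0 := by simpa using hne 2 (by norm_num)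
  have h4 : (4 : F) ≠ 0 := by simpa using hne 4 (by norm_num)
  have h50 : (5 : F) = 0 := by simpa using CharP.cast_eq_zero F 5
  let d1 : GL (Fin 3) F := monEl (Equiv.swap 0 1) ![1, 1, Units.mk0 4 h4]
  let d2 : GL (Fin 3) F := monEl (Equiv.swap 0 1) ![Units.mk0 2 h2, 1, Units.mk0 2 h2]
  have e1 : (d1 : Matrix (Fin 3) (Fin 3) F) = !![0, 1, 0; 1, 0, 0; 0, 0, 4] := by
    ext p q; fin_cases p <;> fin_cases q <;> simp [d1, monEl_apply, Equiv.swap_apply_def]
  have e2 : (d2 : Matrix (Fin 3) (Fin 3) F) = !![0, 1, 0; 2, 0, 0; 0, 0, 2] := by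
    ext p q; fin_cases p <;> fin_cases q <;> simp [d2, monEl_apply, Equiv.swap_apply_def]
  have m1 : d1 ∈ M := hM _ (mono_monEl _ _) (by
    rw [e1, det_fin_three]; simp; linear_combination (-1 : F) * h50)
  have m2 : d2 ∈ M := hM _ (mono_monEl _ _) (by
    rw [e2, det_fin_three]; simp; linear_combination (-1 : F) * h50)
  set k := g * d1 * g * d1 * g * d2 * g
  have hk : (k : Matrix (Fin 3) (Fin 3) F) = !![2, 3, 0; 4, 4, 2; 2, 4, 0] := by
    have h := congrArg f.mapMatrix five_word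
    simp only [map_mul] at h
    have hmap : ∀ a b c a' b' c' a'' b'' c'' : ZMod 5,
        f.mapMatrix !![a, b, c; a', b', c'; a'', b'', c''] =
          !![f a, f b, f c; f a', f b', f c'; f a'', f b'', f c''] := by
      intros
      ext p q; fin_cases p <;> fin_cases q <;> simp
    simp only [hmap, map_zero, map_one, map_neg, map_ofNat] at h
    simp only [k, Units.val_mul, hgv, e1, e2]
    exact h
  refine le_of_col_row hq hM (g := k) (by
    repeat' first | assumption | apply M.mul_mem) (i := 1) (j := 2) (r := 0) ?_ (by decide) ?_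
  · intro p hp; rw [hk]; fin_cases p <;> simp at hp ⊢
  · rw [hk]; simpa using h4

/-- **A non-monomial element with a column with one entry gives everything.** -/
theorem le_of_col (hMS : ∀ g ∈ M, (g : Matrix (Fin 3) (Fin 3) F).det = 1) {g : GL (Fin 3) F} (hg : g ∈ M)
    (hmono : ¬ Mono g) {i j : Fin 3}
    (hcol : ∀ p, p ≠ i → (g : Matrix (Fin 3) (Fin 3) F) p j = 0) : specialLinear (Fin 3) F ≤ M := by
  obtain ⟨g', dl, dr, hg', hm', hent⟩ := exists_normal hq hM hg (Equiv.swap 0 i) (Equiv.swap 0 j)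
  have hmono' : ¬ Mono g' := fun h => hmono (hm' h)
  set G := (g' : Matrix (Fin 3) (Fin 3) F) with hG
  have hcol' : ∀ p, p ≠ 0 → G p 0 = 0 := fun p hp => by
    rw [hent, Equiv.swap_apply_left, hcol _ fun h => hp ((Equiv.swap 0 i).injective
      (h.trans (Equiv.swap_apply_left 0 i).symm)), mul_zero, zero_mul]
  by_cases h01 : G 0 1 = 0
  swap; · exact le_of_col_row hq hM hg' hcol' (by decide) h01
  by_cases h02 : G 0 2 = 0
  swap; · exact le_of_col_row hq hM hg' hcol' (by decide) h02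
  have h10 := hcol' 1 (by decide)
  have h20 := hcol' 2 (by decide)
  have hdiag : ¬ (G 1 2 = 0 ∧ G 2 1 = 0) := fun h => hmono' ⟨1, fun p q hpq => by
    fin_cases p <;> fin_cases q <;> simp_all⟩
  have hanti : ¬ (G 1 1 = 0 ∧ G 2 2 = 0) := fun h => hmono' ⟨Equiv.swap 1 2, fun p q hpq => by
    fin_cases p <;> fin_cases q <;> simp_all [Equiv.swap_apply_def]⟩
  by_cases ha : G 1 1 = 0
  · refine le_of_col_row hq hM hg' (i := 2) (j := 1) ?_ (r := 2) (by decide) (fun h => hanti ⟨ha, h⟩)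
    intro p hp; fin_cases p <;> simp_all
  by_cases hd : G 2 2 = 0
  · refine le_of_col_row hq hM hg' (i := 1) (j := 2) ?_ (r := 1) (by decide) ha
    intro p hp; fin_cases p <;> simp_all
  by_cases hb : G 1 2 = 0
  · refine le_of_col_row hq hM hg' (i := 2) (j := 2) ?_ (r := 1) (by decide) (fun h => hdiag ⟨hb, h⟩)
    intro p hp; fin_cases p <;> simp_all
  by_cases hc : G 2 1 = 0
  · refine le_of_col_row hq hM hg' (i := 1) (j := 1) ?_ (r := 2) (by decide) hb
    intro p hp; fin_cases p <;> simp_all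
  set A := G 0 0 with hA
  set a := G 1 1
  set b := G 1 2
  set c := G 2 1
  set d := G 2 2
  have hgv : (g' : Matrix (Fin 3) (Fin 3) F) = !![A, 0, 0; 0, a, b; 0, c, d] := by
    rw [← hG]
    ext p q; fin_cases p <;> fin_cases q <;> simp [h01, h02, h10, h20, hA, a, b, c, d]
  by_cases hρ : b * c + a * d = 0
  swap; · exact le_of_block hq hM hg' hgv ha hb hc hd hρ
  have hdet : A * (a * d - b * c) = 1 := by
    have h := hMS g' hg'
    rw [hgv, det_fin_three] at h
    simp at h
    linear_combination h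
  have had : a * d ≠ 0 := mul_ne_zero ha hd
  have h2 : (2 : F) ≠ 0 := fun h => by
    have : A * (a * d - b * c) = 0 := by linear_combination A * a * d * h - A * hρ
    rw [hdet] at this; exact one_ne_zero this
  by_cases h5 : Fintype.card F = 5
  · set A₀ := dg (Units.mk0 (a * c) (mul_ne_zero ha hc)) (Units.mk0 a ha)⁻¹ (Units.mk0 c hc)⁻¹ with hA₀
    set B₀ := dg (Units.mk0 (b / a) (div_ne_zero hb ha)) 1 (Units.mk0 (a / b) (div_ne_zero ha hb)) with hB₀
    refine le_of_five hq hM h5 (g := A₀ * g' * B₀) (M.mul_mem (M.mul_mem (dg_mem hM ?_) hg') (dg_mem hM ?_)) ?_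
    · apply Units.ext; push_cast; simp only [Units.val_mk0]; field_simp
    · apply Units.ext; push_cast; simp only [Units.val_mk0]; field_simp
    · have h50 : (5 : F) = 0 := by
        have := FiniteField.cast_card_eq_zero F
        rw [h5] at this; simpa using this
      rw [Units.val_mul, Units.val_mul, hA₀, hB₀, dg_val, dg_val, hgv]
      ext p q
      fin_cases p <;> fin_cases q <;> simp [Matrix.mul_apply, Fin.sum_univ_three] <;> field_simp
      · exact mul_left_cancel₀ h2 (by linear_combination -hdet + A * hρ - h50)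
      · linear_combination hρ
  classical
  obtain ⟨w, hw⟩ : ∃ w : F, w ∉ ({0, 1, -1} : Finset F) ∪ Finset.univ.filter (fun w : F => w ^ 2 + 1 = 0) := by
    classical
    by_contra hall
    push Not at hall
    have h7 : 7 ≤ Fintype.card F := by
      have : Fintype.card F ≠ 6 := fun h => by
        obtain ⟨p, hp⟩ := CharP.exists F
        obtain ⟨n, hpp, hn⟩ := FiniteField.card F p
        rw [h] at hn
        have h2' := (Nat.prime_dvd_prime_iff_eq Nat.prime_two hpp).1
          (Nat.prime_two.dvd_of_dvd_pow (hn ▸ (by norm_num : 2 ∣ 6)))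
        have h3' := (Nat.prime_dvd_prime_iff_eq Nat.prime_three hpp).1
          (Nat.prime_three.dvd_of_dvd_pow (hn ▸ (by norm_num : 3 ∣ 6)))
        omega
      omega
    have hle : (Finset.univ.filter (fun w : F => w ^ 2 + 1 = 0)).card ≤ 2 := by
      by_contra hlt
      obtain ⟨x, hx, y, hy, z, hz, hxy, hxz, hyz⟩ := Finset.two_lt_card.1 (Nat.lt_of_not_le hlt)
      simp only [Finset.mem_filter, Finset.mem_univ, true_and] at hx hy hz
      have e1 := (mul_eq_zero.1 (show (x - y) * (x + y) = 0 by linear_combination hx - hy)).resolve_left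
        (sub_ne_zero.2 hxy)
      have e2 := (mul_eq_zero.1 (show (x - z) * (x + z) = 0 by linear_combination hx - hz)).resolve_left
        (sub_ne_zero.2 hxz)
      exact hyz (by linear_combination e1 - e2)
    have := (Finset.card_le_card (fun w _ => hall w : (Finset.univ : Finset F) ⊆ _)).trans
      (Finset.card_union_le _ _)
    rw [Finset.card_univ] at this
    have h3 : ({0, 1, -1} : Finset F).card ≤ 3 := Finset.card_le_three
    omega
  simp only [Finset.mem_union, Finset.mem_insert, Finset.mem_singleton, Finset.mem_filter, Finset.mem_univ,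
    true_and, not_or] at hw
  obtain ⟨⟨hw0, hw1, hwm⟩, hwi⟩ := hw
  set y : Fˣ := Units.mk0 (d / a * w) (mul_ne_zero (div_ne_zero hd ha) hw0)
  have hkv : ((g' * dg y⁻¹ y 1 * g' : GL (Fin 3) F) : Matrix (Fin 3) (Fin 3) F) =
      !![A * A / (y : F), 0, 0; 0, a * d * (w - 1), b * d * (w + 1); 0, c * d * (w + 1), d * d * (1 - w)] := by
    rw [Units.val_mul, Units.val_mul, hgv, dg_val]
    ext p q
    fin_cases p <;> fin_cases q <;> simp [Matrix.mul_apply, Fin.sum_univ_three, y] <;> field_simp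
    all_goals first | ring1 | linear_combination hρ | linear_combination w * hρ
  refine le_of_block hq hM (M.mul_mem (M.mul_mem hg' (dg_mem hM (by simp))) hg') hkv ?_ ?_ ?_ ?_ ?_
  · exact mul_ne_zero had (sub_ne_zero.2 hw1)
  · exact mul_ne_zero (mul_ne_zero hb hd) fun h => hwm (by linear_combination h)
  · exact mul_ne_zero (mul_ne_zero hc hd) fun h => hwm (by linear_combination h)
  · exact mul_ne_zero (mul_ne_zero hd hd) (sub_ne_zero.2 fun h => hw1 h.symm)
  · intro h
    have h' : (2 * (d * d) * (a * d)) * (w ^ 2 + 1) = 0 := by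
      linear_combination d ^ 2 * (w + 1) ^ 2 * hρ - h
    exact hwi ((mul_eq_zero.1 h').resolve_left (mul_ne_zero (mul_ne_zero h2 (mul_ne_zero hd hd)) had))

end CfsgLib.SLThree.Decomp
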