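import Cfsg.Agent.SLThree.Decomp.Core
import Mathlib.GroupTheory.SpecificGroups.Cyclic

/-!
# Overgroups of the monomial group of `SL₃ (q)`, `q ≥ 5`, are everything

In a proper overgroup a non-monomial element has no zero entry. Counting the torus images of its
columns shows that some non-scalar diagonal element permutes the columns cyclically, so the products of
opposite entries of the element and its inverse are all one third; this fails for a conjugate of a
diagonal element.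
-/

set_option autoImplicit false
set_option linter.unusedSectionVars false

namespace CfsgLib.SLThree.Decomp

open Matrix Cfsg.Geo CfsgLib.MaxSub CfsgLib.MaxSub.Monomial

theorem cases_of_fix_zero : ∀ π : Equiv.Perm (Fin 3), π 0 = 0 → π = 1 ∨ π = Equiv.swap 1 2 := by decide

theorem cases_of_fix_two : ∀ π : Equiv.Perm (Fin 3), π 2 = 2 → π = 1 ∨ π = Equiv.swap 0 1 := by decide

theorem orbit_of_free : ∀ π : Equiv.Perm (Fin 3), (∀ j, π j ≠ j) →
    ∀ j, j = 0 ∨ j = π 0 ∨ j = π (π 0) := by decide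

variable {F : Type*} [Field F] [Fintype F] {M : Subgroup (GL (Fin 3) F)}

theorem dg_mulVec (a b c : Fˣ) (x : Fin 3 → F) (p : Fin 3) :
    ((dg a b c : Matrix (Fin 3) (Fin 3) F) *ᵥ x) p = (![a, b, c] p : F) * x p := by
  rw [dg, monEl_mulVec]; rfl

theorem dg_mul_apply (a b c : Fˣ) (g : GL (Fin 3) F) (p r : Fin 3) :
    ((dg a b c * g : GL (Fin 3) F) : Matrix (Fin 3) (Fin 3) F) p r = (![a, b, c] p : F) * (g : Matrix _ _ F) p r := by
  rw [Units.val_mul, dg_val, Matrix.mul_apply, Fin.sum_univ_three]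
  fin_cases p <;> simp

theorem mul_monEl_apply (g : GL (Fin 3) F) (π : Equiv.Perm (Fin 3)) (d : Fin 3 → Fˣ) (p r : Fin 3) :
    ((g * monEl π d : GL (Fin 3) F) : Matrix (Fin 3) (Fin 3) F) p r = (g : Matrix _ _ F) p (π r) * d r := by
  rw [Units.val_mul, Matrix.mul_apply, Finset.sum_eq_single (π r)]
  · rw [monEl_apply, if_pos rfl]
  · intro x _ hx; rw [monEl_apply, if_neg hx, mul_zero]
  · exact fun h => absurd (Finset.mem_univ _) h

theorem monEl_mul_apply (g : GL (Fin 3) F) (π : Equiv.Perm (Fin 3)) (d : Fin 3 → Fˣ) (p r : Fin 3) :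
    ((monEl π d * g : GL (Fin 3) F) : Matrix (Fin 3) (Fin 3) F) (π p) r = d p * (g : Matrix _ _ F) p r := by
  rw [Units.val_mul, Matrix.mul_apply, Finset.sum_eq_single p]
  · rw [monEl_apply, if_pos rfl]
  · intro x _ hx; rw [monEl_apply, if_neg fun h => hx (π.injective h).symm, zero_mul]
  · exact fun h => absurd (Finset.mem_univ _) h

/-- A number with two prime factors is not the number of elements. -/
theorem card_ne_of_two_primes {p q n : ℕ} (hp : p.Prime) (hq : q.Prime) (hpq : p ≠ q) (hn : p ∣ n) (hn' : q ∣ n) :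
    Fintype.card F ≠ n := by
  intro h
  obtain ⟨r, hr⟩ := CharP.exists F
  obtain ⟨k, hrp, hk⟩ := FiniteField.card F r
  have h1 := (Nat.prime_dvd_prime_iff_eq hp hrp).1 (hp.dvd_of_dvd_pow (hk ▸ h ▸ hn))
  have h2 := (Nat.prime_dvd_prime_iff_eq hq hrp).1 (hq.dvd_of_dvd_pow (hk ▸ h ▸ hn'))
  exact hpq (h1.trans h2.symm)

variable (hq : 5 ≤ Fintype.card F) (hM : MonoIn M)
  (hMS : ∀ g ∈ M, (g : Matrix (Fin 3) (Fin 3) F).det = 1) (hno : ¬ specialLinear (Fin 3) F ≤ M)

include hq hM hMS hno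

theorem mono_of_col {g : GL (Fin 3) F} (hg : g ∈ M) {i j : Fin 3}
    (hcol : ∀ p, p ≠ i → (g : Matrix (Fin 3) (Fin 3) F) p j = 0) : Mono g := by
  by_contra h
  exact hno (le_of_col hq hM hMS hg h hcol)

/-- A diagonal element with two equal entries is not conjugate to a diagonal one. -/
theorem not_diag {g : GL (Fin 3) F} (hg : g ∈ M) (hmono : ¬ Mono g) {u w : Fˣ} (huw : u ≠ w)
    {δ : Fin 3 → Fˣ} (h : g * monEl 1 δ = dg u u w * g) : False := by
  have hent : ∀ p r, (g : Matrix (Fin 3) (Fin 3) F) p r * (δ r : F) =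
      (![u, u, w] p : F) * (g : Matrix (Fin 3) (Fin 3) F) p r := fun p r => by
    have := mul_monEl_apply g 1 δ p r
    rw [h, dg_mul_apply] at this
    exact this.symm
  obtain ⟨j, hj⟩ : ∃ j, (g : Matrix (Fin 3) (Fin 3) F) 2 j ≠ 0 := by
    by_contra hn
    push Not at hn
    exact (Matrix.isUnit_iff_isUnit_det _ |>.1 g.isUnit).ne_zero (Matrix.det_eq_zero_of_row_eq_zero 2 hn)
  have hδ : (δ j : F) = w := mul_left_cancel₀ hj ((hent 2 j).trans (mul_comm _ _))
  refine hmono (mono_of_col hq hM hMS hno hg (i := 2) (j := j) fun p hp => ?_)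
  by_contra hne
  have := mul_left_cancel₀ hne ((hent p j).trans (mul_comm _ _))
  rw [hδ] at this
  fin_cases p <;> simp_all [Units.ext_iff]

/-- The shape left by seven elements is impossible. -/
theorem false_of_seven (h2 : (2 : F) ≠ 0) {g : GL (Fin 3) F} (hg : g ∈ M) {δ : Fin 3 → Fˣ}
    (hgm : g * monEl (Equiv.swap 1 2) δ = dg (-1) (-1) 1 * g) (hδ0 : (δ 0 : F) = -1)
    (hz : (g : Matrix (Fin 3) (Fin 3) F) 2 0 = 0) (ha : (g : Matrix (Fin 3) (Fin 3) F) 0 0 ≠ 0)
    (hb : (g : Matrix (Fin 3) (Fin 3) F) 1 0 ≠ 0) : False := by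
  set G := (g : Matrix (Fin 3) (Fin 3) F) with hG
  set Gi := ((g⁻¹ : GL (Fin 3) F) : Matrix (Fin 3) (Fin 3) F) with hGi
  set a := G 0 0
  set b := G 1 0
  have h2' : ∀ {x : F}, x = -x → x = 0 := fun {x} h => by
    refine (mul_eq_zero.1 (show (2 : F) * x = 0 by linear_combination h)).resolve_left h2
  set e : Fin 3 → (Fin 3 → F) := fun i => Pi.single i 1 with he
  have hcolv : G *ᵥ e 0 = ![a, b, 0] := by
    funext p; fin_cases p <;> simp [he, a, b, hz]
  set v : Fin 3 → F := ![a, b, 0] with hv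
  set n : Fin 3 → F := ![a, -b, 0] with hn
  set D := (dg (-1) (-1) 1 : GL (Fin 3) F) with hD
  have hDv : ∀ x : Fin 3 → F, (D : Matrix (Fin 3) (Fin 3) F) *ᵥ x = ![-x 0, -x 1, x 2] := fun x => by
    funext p; rw [hD, dg_mulVec]; fin_cases p <;> simp
  set P := Gi *ᵥ e 2 with hP
  have hGP : G *ᵥ P = e 2 := by rw [hP, hG, hGi, mulVec_mulVec, Units.mul_inv, one_mulVec]
  set m := (monEl (Equiv.swap 1 2) δ : GL (Fin 3) F) with hm
  have hmv : ∀ x : Fin 3 → F, (m : Matrix (Fin 3) (Fin 3) F) *ᵥ x = ![-x 0, δ 2 * x 2, δ 1 * x 1] := fun x => by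
    funext p; rw [hm, monEl_mulVec]; fin_cases p <;> simp [Equiv.swap_apply_def, hδ0]
  have hGm : ∀ x, G *ᵥ ((m : Matrix (Fin 3) (Fin 3) F) *ᵥ x) = (D : Matrix (Fin 3) (Fin 3) F) *ᵥ (G *ᵥ x) :=
    fun x => by rw [mulVec_mulVec, mulVec_mulVec, hG, ← Units.val_mul, ← Units.val_mul, hm, hD, hgm]
  have hinj : ∀ x y : Fin 3 → F, G *ᵥ x = G *ᵥ y → x = y := fun x y h => by
    have := congrArg (Gi *ᵥ ·) h
    simpa [hG, hGi, mulVec_mulVec] using this
  have hmP : (m : Matrix (Fin 3) (Fin 3) F) *ᵥ P = P := hinj _ _ (by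
    rw [hGm, hGP, hDv]; funext p; fin_cases p <;> simp [he])
  rw [hmv] at hmP
  have hP0 : P 0 = 0 := h2' (by simpa using (congrFun hmP 0).symm)
  have hP1 : δ 2 * P 2 = P 1 := by simpa using congrFun hmP 1
  have hP2 : δ 1 * P 1 = P 2 := by simpa using congrFun hmP 2
  -- the second involution
  set zz := g * dg 1 (-1) (-1) * g⁻¹ with hzz
  have hzzv : ∀ x, (zz : Matrix (Fin 3) (Fin 3) F) *ᵥ (G *ᵥ x) = G *ᵥ ![x 0, -x 1, -x 2] := fun x => by
    rw [hzz, Units.val_mul, Units.val_mul, ← mulVec_mulVec, ← mulVec_mulVec, hG, mulVec_mulVec x,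
      Units.inv_mul, one_mulVec]
    congr 1
    funext p; rw [dg_mulVec]; fin_cases p <;> simp
  have hzzM : zz ∈ M := M.mul_mem (M.mul_mem hg (dg_mem hM (by simp))) (M.inv_mem hg)
  have hzze2 : (zz : Matrix (Fin 3) (Fin 3) F) *ᵥ e 2 = -e 2 := by
    rw [← hGP, hzzv, ← mulVec_neg]
    congr 1
    funext p; fin_cases p <;> simp [hP0]
  have hzzcol : ∀ p, (zz : Matrix (Fin 3) (Fin 3) F) p 2 = -e 2 p := fun p => by
    rw [← Pi.neg_apply, ← hzze2]; simp [he, mulVec_single_one]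
  obtain ⟨π, η, hη⟩ := (mono_of_col hq hM hMS hno hzzM (i := 2) (j := 2)
    fun p hp => by rw [hzzcol]; simp [he, hp]).eq_monEl
  have hπ2 : π 2 = 2 := by
    by_contra hne
    have := hzzcol (π 2)
    rw [hη, monEl_apply, if_pos rfl] at this
    simp [he, hne] at this
  have hzzV : (zz : Matrix (Fin 3) (Fin 3) F) *ᵥ v = v := by
    rw [← hcolv, hzzv]
    congr 1
    funext p; fin_cases p <;> simp [he]
  have hη2 : (η 2 : F) = -1 := by
    have := hzzcol 2
    rw [hη, monEl_apply, hπ2, if_pos rfl] at this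
    simpa [he] using this
  rw [hη] at hzzV
  have hswap : π = Equiv.swap 0 1 := by
    refine (cases_of_fix_two π hπ2).resolve_left fun h1 => ?_
    subst h1
    have h0 := congrFun hzzV 0
    have h1 := congrFun hzzV 1
    simp only [monEl_mulVec, Equiv.Perm.one_symm, Equiv.Perm.coe_one, id_eq, hv, cons_val_zero, cons_val_one] at h0 h1
    have hdet := hMS zz hzzM
    rw [hη, det_monEl, Fin.prod_univ_three, hη2, mul_eq_right₀ ha |>.1 h0, mul_eq_right₀ hb |>.1 h1] at hdet
    exact one_ne_zero (h2' (by simpa using hdet.symm))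
  subst hswap
  have hswv : ∀ x : Fin 3 → F, (monEl (Equiv.swap 0 1) η : Matrix (Fin 3) (Fin 3) F) *ᵥ x =
      ![η 1 * x 1, η 0 * x 0, -x 2] := fun x => by
    funext p; rw [monEl_mulVec]; fin_cases p <;> simp [Equiv.swap_apply_def, hη2]
  rw [hswv, hv] at hzzV
  have hη1 : (η 1 : F) * b = a := by simpa using congrFun hzzV 0
  have hη0 : (η 0 : F) * a = b := by simpa using congrFun hzzV 1
  -- the image of the last point under the third involution
  set h := g * dg (-1) 1 (-1) * g⁻¹ with hh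
  have hhM : h ∈ M := M.mul_mem (M.mul_mem hg (dg_mem hM (by simp))) (M.inv_mem hg)
  have hhv : ∀ x, (h : Matrix (Fin 3) (Fin 3) F) *ᵥ (G *ᵥ x) = G *ᵥ ![-x 0, x 1, -x 2] := fun x => by
    rw [hh, Units.val_mul, Units.val_mul, ← mulVec_mulVec, ← mulVec_mulVec, hG, mulVec_mulVec x,
      Units.inv_mul, one_mulVec]
    congr 1
    funext p; rw [dg_mulVec]; fin_cases p <;> simp
  set Q : Fin 3 → F := ![0, P 1, -P 2] with hQ
  set Y := G *ᵥ Q with hY
  have hY2 : Y 2 = 0 := h2' (by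
    have := congrFun (hGm Q) 2
    rw [show (m : Matrix (Fin 3) (Fin 3) F) *ᵥ Q = -Q by
      rw [hmv]; funext p; fin_cases p <;> simp [hQ, hP1, hP2], mulVec_neg, hDv] at this
    simpa [hY] using this.symm)
  have hYzz : (zz : Matrix (Fin 3) (Fin 3) F) *ᵥ Y = -Y := by
    rw [hY, hzzv, ← mulVec_neg]
    congr 1
    funext p; fin_cases p <;> simp [hQ]
  rw [hη, hswv] at hYzz
  have hY1 : (η 1 : F) * Y 1 = -Y 0 := by simpa using congrFun hYzz 0
  set s := Y 0 / a with hs
  have hYn : Y = s • n := by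
    funext p
    fin_cases p
    · simp [hs, hn, div_mul_cancel₀ _ ha]
    · show Y 1 = s * -b
      have hne := (η 1).ne_zero
      refine mul_left_cancel₀ hne ?_
      rw [hY1, hs, mul_comm (Y 0 / a), ← mul_assoc, mul_neg, hη1]
      field_simp
    · simp [hn, hY2]
  have hhe2 : (h : Matrix (Fin 3) (Fin 3) F) *ᵥ e 2 = s • n := by
    rw [← hYn, ← hGP, hhv, hY]
    congr 1
    funext p; fin_cases p <;> simp [hQ, hP0]
  have hhY : (h : Matrix (Fin 3) (Fin 3) F) *ᵥ Y = e 2 := by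
    rw [hY, hhv, ← hGP]
    congr 1
    funext p; fin_cases p <;> simp [hQ, hP0]
  have hs0 : s ≠ 0 := fun h0 => by
    rw [hYn, h0, zero_smul, mulVec_zero] at hhY
    simpa [he] using congrFun hhY 2
  have hhn : (h : Matrix (Fin 3) (Fin 3) F) *ᵥ n = s⁻¹ • e 2 := by
    rw [← hhY, ← mulVec_smul, hYn, inv_smul_smul₀ hs0]
  have hhV : (h : Matrix (Fin 3) (Fin 3) F) *ᵥ v = -v := by
    rw [← hcolv, hhv, ← mulVec_neg]
    congr 1
    funext p; fin_cases p <;> simp [he]
  have hlin : ∀ r₁ r₂ r₃ : F, (h : Matrix (Fin 3) (Fin 3) F) *ᵥ (r₁ • v + r₂ • n + r₃ • e 2) =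
      -(r₁ • v) + (r₂ / s) • e 2 + (r₃ * s) • n := fun r₁ r₂ r₃ => by
    rw [mulVec_add, mulVec_add, mulVec_smul, mulVec_smul, mulVec_smul, hhV, hhn, hhe2, smul_neg, smul_smul,
      smul_smul, div_eq_mul_inv]
  -- the word
  set d := (monEl (Equiv.swap 1 2) ![1, Units.mk0 (s * b)⁻¹ (inv_ne_zero (mul_ne_zero hs0 hb)),
    -Units.mk0 (s * b) (mul_ne_zero hs0 hb)] : GL (Fin 3) F) with hd
  have hdM : d ∈ M := hM _ (mono_monEl _ _) (by
    rw [det_monEl, Fin.prod_univ_three]
    simp [Equiv.Perm.sign_swap]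
    field_simp)
  have hdv : ∀ x : Fin 3 → F, (d : Matrix (Fin 3) (Fin 3) F) *ᵥ x = ![x 0, -(s * b) * x 2, (s * b)⁻¹ * x 1] :=
    fun x => by
      funext p; rw [hd, monEl_mulVec]; fin_cases p <;> simp [Equiv.swap_apply_def]
  set k := h * d * h with hk
  have hkv : ∀ x, (k : Matrix (Fin 3) (Fin 3) F) *ᵥ x =
      (h : Matrix (Fin 3) (Fin 3) F) *ᵥ ((d : Matrix (Fin 3) (Fin 3) F) *ᵥ ((h : Matrix (Fin 3) (Fin 3) F) *ᵥ x)) :=
    fun x => by rw [hk, Units.val_mul, Units.val_mul, ← mulVec_mulVec, ← mulVec_mulVec]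
  have he0 : e 0 = (2 * a)⁻¹ • v + (2 * a)⁻¹ • n + (0 : F) • e 2 := by
    funext p; fin_cases p <;> simp [he, hv, hn] <;> field_simp <;> ring
  have hk0 : (k : Matrix (Fin 3) (Fin 3) F) *ᵥ e 0 = ![0, b / a, 0] := by
    rw [hkv, he0, hlin, hdv, show (![(-((2 * a)⁻¹ • v) + ((2 * a)⁻¹ / s) • e 2 + ((0 : F) * s) • n) 0,
        -(s * b) * (-((2 * a)⁻¹ • v) + ((2 * a)⁻¹ / s) • e 2 + ((0 : F) * s) • n) 2,
        (s * b)⁻¹ * (-((2 * a)⁻¹ • v) + ((2 * a)⁻¹ / s) • e 2 + ((0 : F) * s) • n) 1] : Fin 3 → F) =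
      (-(2 * a)⁻¹) • v + (0 : F) • n + (-((2 * a)⁻¹ / s)) • e 2 by
        funext p; fin_cases p <;> simp [he, hv, hn, Matrix.vecHead, Matrix.vecTail] <;> field_simp, hlin]
    funext p; fin_cases p <;> simp [he, hv, hn] <;> field_simp <;> ring
  have hk2 : ((k : Matrix (Fin 3) (Fin 3) F) *ᵥ e 2) 1 = s * b / 2 := by
    rw [hkv, hhe2, hdv, show (![(s • n) 0, -(s * b) * (s • n) 2, (s * b)⁻¹ * (s • n) 1] : Fin 3 → F) =
      (s / 2) • v + (s / 2) • n + (-1 : F) • e 2 by
        funext p; fin_cases p <;> simp [he, hv, hn, Matrix.vecHead, Matrix.vecTail] <;> field_simp <;> ring, hlin]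
    simp [he, hv, hn, Matrix.vecHead, Matrix.vecTail]
    field_simp
    ring
  refine hno (le_of_col_row hq hM (g := k) (M.mul_mem (M.mul_mem hhM hdM) hhM) (i := 1) (j := 0) (r := 2)
    (fun p hp => ?_) (by decide) ?_)
  · have := congrFun hk0 p
    rw [he, mulVec_single_one, col_apply] at this
    rw [this]
    fin_cases p <;> simp at hp ⊢
  · rw [he, mulVec_single_one, col_apply] at hk2
    rw [hk2]
    exact div_ne_zero (mul_ne_zero hs0 hb) h2

/-- **No zero entries.** -/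
theorem full {g : GL (Fin 3) F} (hg : g ∈ M) (hmono : ¬ Mono g) (p j : Fin 3) :
    (g : Matrix (Fin 3) (Fin 3) F) p j ≠ 0 := by
  intro h0
  obtain ⟨g', dl, dr, hg', hm', hent⟩ := exists_normal hq hM hg (Equiv.swap 2 p) (Equiv.swap 0 j)
  have hmono' : ¬ Mono g' := fun h => hmono (hm' h)
  set G := (g' : Matrix (Fin 3) (Fin 3) F) with hG
  have hz : G 2 0 = 0 := by rw [hent, Equiv.swap_apply_left, Equiv.swap_apply_left, h0, mul_zero, zero_mul]
  have ha : G 0 0 ≠ 0 := fun h => hmono' (mono_of_col hq hM hMS hno hg' (i := 1) (j := 0)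
    fun x hx => by fin_cases x <;> simp_all)
  have hb : G 1 0 ≠ 0 := fun h => hmono' (mono_of_col hq hM hMS hno hg' (i := 0) (j := 0)
    fun x hx => by fin_cases x <;> simp_all)
  -- the preimage of a diagonal element swaps the last two points
  have hswap : ∀ u : Fˣ, u ≠ (u ^ 2)⁻¹ → ∃ δ : Fin 3 → Fˣ,
      g' * monEl (Equiv.swap 1 2) δ = dg u u (u ^ 2)⁻¹ * g' ∧ (δ 0 : F) = u := by
    intro u hu
    set m := g'⁻¹ * dg u u (u ^ 2)⁻¹ * g' with hm
    have hmM : m ∈ M := M.mul_mem (M.mul_mem (M.inv_mem hg')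
      (dg_mem hM (by rw [← pow_two, mul_inv_cancel]))) hg'
    have hm0 : ∀ x, (m : Matrix (Fin 3) (Fin 3) F) x 0 = if x = 0 then (u : F) else 0 := by
      intro x
      have h1 : ((dg u u (u ^ 2)⁻¹ : GL (Fin 3) F) : Matrix (Fin 3) (Fin 3) F) *ᵥ (G *ᵥ Pi.single 0 1) =
          (u : F) • (G *ᵥ Pi.single 0 1) := by
        funext y; rw [dg_mulVec]; fin_cases y <;> simp [hz]
      have h2 : (m : Matrix (Fin 3) (Fin 3) F) *ᵥ Pi.single 0 1 = (u : F) • Pi.single 0 1 := by
        rw [hm, Units.val_mul, Units.val_mul, ← mulVec_mulVec, ← mulVec_mulVec, ← hG, h1, mulVec_smul,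
          mulVec_mulVec, hG, Units.inv_mul, one_mulVec]
      have := congrFun h2 x
      rw [mulVec_single_one, col_apply] at this
      rw [this]
      simp [Pi.single_apply]
    obtain ⟨π, δ, hδ⟩ := (mono_of_col hq hM hMS hno hmM (i := 0) (j := 0)
      fun x hx => by rw [hm0, if_neg hx]).eq_monEl
    have hπ0 : π 0 = 0 := by
      by_contra hne
      have := hm0 (π 0)
      rw [hδ, monEl_apply, if_pos rfl, if_neg hne] at this
      exact (δ 0).ne_zero this
    have hgm : g' * monEl π δ = dg u u (u ^ 2)⁻¹ * g' := by rw [← hδ, hm]; group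
    rcases cases_of_fix_zero π hπ0 with rfl | rfl
    · exact absurd hgm fun h => not_diag hq hM hMS hno hg' hmono' hu h
    · refine ⟨δ, hgm, ?_⟩
      have := hm0 0
      rwa [hδ, monEl_apply, hπ0, if_pos rfl, if_pos rfl] at this
  by_cases h6 : ∃ u : Fˣ, u ^ 6 ≠ 1
  · obtain ⟨u, hu⟩ := h6
    have hu3 : u ≠ (u ^ 2)⁻¹ := fun h => hu (by
      rw [eq_inv_iff_mul_eq_one, ← pow_succ'] at h
      rw [show (6 : ℕ) = 3 * 2 from rfl, pow_mul, h, one_pow])
    obtain ⟨δ, hgm, -⟩ := hswap u hu3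
    have hsq : monEl (Equiv.swap (1 : Fin 3) 2) δ * monEl (Equiv.swap 1 2) δ =
        monEl 1 (fun r => δ (Equiv.swap 1 2 r) * δ r) := Units.ext (by
      show monMat _ _ * monMat _ _ = monMat _ _
      rw [monMat_mul, Equiv.swap_mul_self]
      simp)
    refine not_diag hq hM hMS hno hg' hmono' (u := u * u) (w := (u ^ 2)⁻¹ * (u ^ 2)⁻¹)
      (fun h => hu ?_) (δ := fun r => δ (Equiv.swap 1 2 r) * δ r) ?_
    · rw [← _root_.mul_inv_rev, eq_inv_iff_mul_eq_one] at h
      rw [← h]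
      simp only [pow_succ, pow_zero, one_mul, mul_assoc]
    · rw [← hsq, ← mul_assoc, hgm, mul_assoc, hgm, ← mul_assoc]
      congr 1
      apply Units.ext
      rw [Units.val_mul, dg_val, dg_val]
      ext x y; fin_cases x <;> fin_cases y <;> simp [Matrix.mul_apply, Fin.sum_univ_three]
  push Not at h6
  have h7 : Fintype.card F = 7 := by
    by_contra hne
    by_cases h5 : Fintype.card F = 5
    · obtain ⟨u, hu⟩ := exists_pow_ne_one (F := F) (n := 2) (by norm_num) (by omega)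
      have h4 : u ^ 4 = 1 := by
        apply Units.ext
        have := FiniteField.pow_card_sub_one_eq_one (u : F) u.ne_zero
        rwa [h5] at this
      exact hu (by rw [← h6 u, show (6 : ℕ) = 4 + 2 from rfl, pow_add, h4, one_mul])
    have : Fintype.card F ≠ 6 := card_ne_of_two_primes Nat.prime_two Nat.prime_three (by norm_num) (by norm_num) (by norm_num)
    obtain ⟨u, hu⟩ := exists_pow_ne_one (F := F) (n := 6) (by norm_num) (by omega)
    exact hu (h6 u)
  have h2 : (2 : F) ≠ 0 := fun h => by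
    have h70 := FiniteField.cast_card_eq_zero F
    rw [h7, Nat.cast_ofNat] at h70
    exact one_ne_zero (α := F) (by linear_combination h70 - 3 * h)
  have hu : (-1 : Fˣ) ≠ ((-1 : Fˣ) ^ 2)⁻¹ := by
    rw [neg_one_sq, inv_one]
    intro h
    have := congrArg Units.val h
    rw [Units.val_neg, Units.val_one] at this
    exact h2 (by linear_combination -this)
  obtain ⟨δ, hgm, hδ0⟩ := hswap (-1) hu
  rw [neg_one_sq, inv_one] at hgm
  exact false_of_seven hq hM hMS hno h2 hg' hgm (by simpa using hδ0) hz ha hb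

theorem not_mono_inv {g : GL (Fin 3) F} (hmono : ¬ Mono g) : ¬ Mono g⁻¹ := fun h => hmono (by simpa using h.inv)

/-- **The products of opposite entries are one third.** -/
theorem three_mul_opp {g : GL (Fin 3) F} (hg : g ∈ M) (hmono : ¬ Mono g) (p j : Fin 3) :
    3 * ((g : Matrix (Fin 3) (Fin 3) F) p j * ((g⁻¹ : GL (Fin 3) F) : Matrix (Fin 3) (Fin 3) F) j p) = 1 := by
  classical
  have hne := full hq hM hMS hno hg hmono
  set G := (g : Matrix (Fin 3) (Fin 3) F) with hG
  set Gi := ((g⁻¹ : GL (Fin 3) F) : Matrix (Fin 3) (Fin 3) F) with hGi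
  by_cases hex : ∃ a b c : Fˣ, a * b * c = 1 ∧ ¬ (a = b ∧ b = c) ∧ Mono (g⁻¹ * dg a b c * g)
  · obtain ⟨a, b, c, habc, hns, hm⟩ := hex
    obtain ⟨π, δ, hδ⟩ := hm.eq_monEl
    have hgm : g * monEl π δ = dg a b c * g := by rw [← hδ]; group
    have hmg : monEl π δ * g⁻¹ = g⁻¹ * dg a b c := by rw [← hδ]; group
    have h1 : ∀ x r, G x (π r) * (δ r : F) = (![a, b, c] x : F) * G x r := fun x r => by
      have := mul_monEl_apply g π δ x r
      rw [hgm, dg_mul_apply] at this
      exact this.symm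
    have hfree : ∀ r, π r ≠ r := fun r hr => by
      have h' : ∀ x, (![a, b, c] x : F) = δ r := fun x => by
        have := h1 x r
        rw [hr] at this
        exact mul_right_cancel₀ (hne x r) ((this.symm.trans (mul_comm _ _)))
      exact hns ⟨Units.ext ((h' 0).trans (h' 1).symm), Units.ext ((h' 1).trans (h' 2).symm)⟩
    have h2 : ∀ x r, G x (π r) * Gi (π r) x = G x r * Gi r x := fun x r => by
      have h' := monEl_mul_apply g⁻¹ π δ r x
      rw [hmg, Units.val_mul, dg_val, ← hGi, Matrix.mul_apply, Fin.sum_univ_three] at h'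
      have h'' : Gi (π r) x * (![a, b, c] x : F) = δ r * Gi r x := by
        rw [← h']; fin_cases x <;> simp
      refine mul_right_cancel₀ (mul_ne_zero (δ r).ne_zero (![a, b, c] x).ne_zero) ?_
      linear_combination Gi (π r) x * (![a, b, c] x : F) * h1 x r + (![a, b, c] x : F) * G x r * h''
    have hall : ∀ r, G p r * Gi r p = G p 0 * Gi 0 p := fun r => by
      rcases orbit_of_free π hfree r with rfl | rfl | rfl
      exacts [rfl, h2 p 0, (h2 p (π 0)).trans (h2 p 0)]
    have hsum : ∑ r, G p r * Gi r p = 1 := by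
      rw [← Matrix.mul_apply, hG, hGi, Units.mul_inv, Matrix.one_apply_eq]
    rw [Finset.sum_congr rfl fun r _ => hall r, Finset.sum_const, Finset.card_univ, Fintype.card_fin,
      nsmul_eq_mul, Nat.cast_ofNat] at hsum
    rwa [hall j]
  exfalso
  push Not at hex
  have hscal : ∀ a b : Fˣ, ∀ i : Fin 3, ∀ x : Fin 3 → F,
      (dg a b (a * b)⁻¹ : Matrix (Fin 3) (Fin 3) F) *ᵥ (G *ᵥ Pi.single i 1) = G *ᵥ x →
      (∀ y, ((g⁻¹ * dg a b (a * b)⁻¹ * g : GL (Fin 3) F) : Matrix (Fin 3) (Fin 3) F) y i = x y) := by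
    intro a b i x h y
    have h' := congrArg (Gi *ᵥ ·) h
    simp only [hGi, hG, mulVec_mulVec, Units.inv_mul, one_mulVec] at h'
    have h'' := congrFun h' y
    rw [mulVec_single_one, col_apply] at h''
    rw [← h'', Units.val_mul, Units.val_mul, mul_assoc]
  have hmem : ∀ a b : Fˣ, g⁻¹ * dg a b (a * b)⁻¹ * g ∈ M := fun a b =>
    M.mul_mem (M.mul_mem (M.inv_mem hg) (dg_mem hM (mul_inv_cancel _))) hg
  let φ : Fˣ × Fˣ →* Fˣ × Fˣ :=
    { toFun := fun r => (r.1 ^ 2 * r.2, r.1 * r.2 ^ 2)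
      map_one' := by simp
      map_mul' := fun r r' => by simp only [Prod.fst_mul, Prod.snd_mul, mul_pow]; ext <;> simp [mul_mul_mul_comm] }
  have hker : Nat.card φ.ker ≤ 3 := by
    have hk : ∀ r : φ.ker, r.1.2 = r.1.1 ∧ r.1.1 ^ 3 = 1 := fun r => by
      have h := Prod.ext_iff.1 (MonoidHom.mem_ker.1 r.2)
      simp only [φ, MonoidHom.coe_mk, OneHom.coe_mk, Prod.fst_one, Prod.snd_one] at h
      have e1 : r.1.2 = r.1.1 := by
        have : r.1.1 * r.1.2 * r.1.2 = r.1.1 * r.1.2 * r.1.1 := by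
          rw [show r.1.1 * r.1.2 * r.1.1 = r.1.1 ^ 2 * r.1.2 by rw [pow_two, mul_right_comm], h.1,
            mul_assoc, ← pow_two, h.2]
        exact mul_left_cancel this
      refine ⟨e1, ?_⟩
      rw [pow_succ]
      have := h.1
      rwa [e1] at this
    refine (Nat.card_le_card_of_injective (fun r : φ.ker => (⟨r.1.1, (hk r).2⟩ : {u : Fˣ // u ^ 3 = 1}))
      fun r r' h => Subtype.ext (Prod.ext (congrArg Subtype.val h) ?_)).trans ?_
    · rw [(hk r).1, (hk r').1]; exact congrArg Subtype.val h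
    · rw [Nat.card_eq_fintype_card, Fintype.card_subtype]
      exact IsCyclic.card_pow_eq_one_le (by norm_num)
  let c : Fin 3 → Fˣ × Fˣ := fun i =>
    (Units.mk0 (G 0 i / G 2 i) (div_ne_zero (hne 0 i) (hne 2 i)),
      Units.mk0 (G 1 i / G 2 i) (div_ne_zero (hne 1 i) (hne 2 i)))
  let f : φ.range × Fin 3 → Fˣ × Fˣ := fun r => r.1.1 * c r.2
  have hpt : ∀ (a b : Fˣ) (i : Fin 3) (X : Fin 3 → F), X 2 ≠ 0 →
      ((φ (a, b) * c i).1 : F) = X 0 / X 2 → ((φ (a, b) * c i).2 : F) = X 1 / X 2 →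
      (dg a b (a * b)⁻¹ : Matrix (Fin 3) (Fin 3) F) *ᵥ (G *ᵥ Pi.single i 1) =
        ((((a * b)⁻¹ : Fˣ) : F) * G 2 i / X 2) • X := by
    intro a b i X hX e1 e2
    have ha := a.ne_zero
    have hb := b.ne_zero
    have := hne 2 i
    simp only [φ, c, MonoidHom.coe_mk, OneHom.coe_mk, Prod.fst_mul, Prod.snd_mul, Units.val_mul,
      Units.val_pow_eq_pow_val, Units.val_mk0] at e1 e2
    funext y
    rw [dg_mulVec, Pi.smul_apply, smul_eq_mul, mulVec_single_one, col_apply]
    fin_cases y <;> simp <;> field_simp at e1 e2 ⊢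
    · linear_combination e1
    · linear_combination e2
  have hinj : Function.Injective f := by
    rintro ⟨⟨r, hr⟩, i⟩ ⟨⟨r', hr'⟩, i'⟩ h
    obtain ⟨⟨a, b⟩, hab⟩ : r'⁻¹ * r ∈ φ.range := φ.range.mul_mem (φ.range.inv_mem hr') hr
    have h' : φ (a, b) * c i = c i' := by
      rw [hab, mul_assoc, show r * c i = r' * c i' from h, inv_mul_cancel_left]
    have hv := hpt a b i (fun y => G y i') (hne 2 i')
      (by rw [h']; simp [c]) (by rw [h']; simp [c])
    set l := (((a * b)⁻¹ : Fˣ) : F) * G 2 i / G 2 i' with hl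
    have hcol := hscal a b i (l • Pi.single i' 1) (by
      rw [hv, mulVec_smul]; funext y; simp)
    have hmo := mono_of_col hq hM hMS hno (hmem a b) (i := i') (j := i) fun y hy => by
      rw [hcol]; simp [hy]
    obtain ⟨e1, e2⟩ : a = b ∧ b = (a * b)⁻¹ := by
      by_contra hn
      exact hex a b _ (mul_inv_cancel _) (fun e1 e2 => hn ⟨e1, e2⟩) hmo
    subst e1
    have hr1 : φ (a, a) = 1 := by
      have : a * (a * a) = 1 := by rw [← eq_inv_iff_mul_eq_one]; exact e2
      simp only [φ, MonoidHom.coe_mk, OneHom.coe_mk, pow_two]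
      ext <;> simp [← Units.val_mul, this, mul_assoc]
    have hrr : r = r' := by rw [hr1, eq_comm, inv_mul_eq_one] at hab; exact hab.symm
    refine Prod.ext (Subtype.ext hrr) ?_
    by_contra hii
    have h0 := hscal a a i (((a : F)) • Pi.single i 1) (by
      rw [mulVec_smul]
      funext y
      rw [dg_mulVec, Pi.smul_apply, smul_eq_mul, ← e2]
      fin_cases y <;> simp) i
    rw [hcol] at h0
    simp [Ne.symm (Ne.symm hii)] at h0
    exact a.ne_zero h0.symm
  have hsur : Function.Surjective f := by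
    have hle := Nat.card_le_card_of_injective f hinj
    have hrk := φ.ker.card_eq_card_quotient_mul_card_subgroup
    rw [Nat.card_congr (QuotientGroup.quotientKerEquivRange φ).toEquiv] at hrk
    refine (hinj.bijective_of_nat_card_le ?_).2
    rw [Nat.card_prod φ.range, Nat.card_fin]
    calc Nat.card (Fˣ × Fˣ) = Nat.card φ.range * Nat.card φ.ker := hrk
      _ ≤ Nat.card φ.range * 3 := Nat.mul_le_mul_left _ hker
  obtain ⟨x, hx⟩ : ∃ x : F, x ∉ insert 0 (Finset.univ.image fun y : Fin 3 => -(G y 0) / G y 1) := by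
    by_contra hall
    push Not at hall
    have := (Finset.card_le_card (fun y _ => hall y : (Finset.univ : Finset F) ⊆ _)).trans
      ((Finset.card_insert_le _ _).trans (Nat.add_le_add_right Finset.card_image_le 1))
    rw [Finset.card_univ, Finset.card_univ, Fintype.card_fin] at this
    omega
  simp only [Finset.mem_insert, Finset.mem_image, Finset.mem_univ, true_and, not_or, not_exists] at hx
  set X : Fin 3 → F := fun y => G y 0 + x * G y 1 with hX
  have hX0 : ∀ y, X y ≠ 0 := fun y h => hx.2 y (by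
    have := hne y 1
    field_simp
    simp only [hX] at h
    linear_combination -h)
  obtain ⟨⟨⟨_, ⟨a, b⟩, rfl⟩, i⟩, hf⟩ := hsur (Units.mk0 (X 0 / X 2) (div_ne_zero (hX0 0) (hX0 2)),
    Units.mk0 (X 1 / X 2) (div_ne_zero (hX0 1) (hX0 2)))
  have hv := hpt a b i X (hX0 2) (by rw [show φ (a, b) * c i = _ from hf]; simp)
    (by rw [show φ (a, b) * c i = _ from hf]; simp)
  set l := (((a * b)⁻¹ : Fˣ) : F) * G 2 i / X 2
  have hl : l ≠ 0 := div_ne_zero (mul_ne_zero (Units.ne_zero _) (hne 2 i)) (hX0 2)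
  have hcol := hscal a b i (l • ![1, x, 0]) (by
    rw [hv, mulVec_smul]
    congr 1
    funext y
    simp [hX, mulVec, dotProduct, Fin.sum_univ_three]
    ring)
  refine full hq hM hMS hno (hmem a b) (fun hmo => ?_) 2 i (by rw [hcol]; simp)
  obtain ⟨π, hπ⟩ := hmo
  exact absurd ((hπ 0 i (by rw [hcol]; simpa using hl)).trans (hπ 1 i (by rw [hcol]; simpa using ⟨hl, hx.1⟩)).symm)
    (by decide)

/-- Overgroups of the monomial group contain only monomial matrices, or everything. -/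
theorem mono_of_mem {g : GL (Fin 3) F} (hg : g ∈ M) : Mono g := by
  by_contra hmono
  set G := (g : Matrix (Fin 3) (Fin 3) F) with hG
  set Gi := ((g⁻¹ : GL (Fin 3) F) : Matrix (Fin 3) (Fin 3) F) with hGi
  have hne := full hq hM hMS hno hg hmono
  have hne' := full hq hM hMS hno (M.inv_mem hg) (not_mono_inv hq hM hMS hno hmono)
  have hopp := three_mul_opp hq hM hMS hno hg hmono
  have hkey : ∀ u : Fˣ, u ^ 9 = 1 := by
    intro u
    by_cases hu : u ^ 3 = 1
    · rw [show (9 : ℕ) = 3 * 3 from rfl, pow_mul, hu, one_pow]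
    set w : Fˣ := (u ^ 2)⁻¹ with hw
    set h := g * dg u u w * g⁻¹ with hh
    have hhM : h ∈ M := M.mul_mem (M.mul_mem hg (dg_mem hM (by rw [hw, ← pow_two, mul_inv_cancel]))) (M.inv_mem hg)
    have hent : ∀ x r, x ≠ r → (h : Matrix (Fin 3) (Fin 3) F) x r = ((w : F) - u) * (G x 2 * Gi 2 r) ∧
        ((h⁻¹ : GL (Fin 3) F) : Matrix (Fin 3) (Fin 3) F) x r = ((w : F)⁻¹ - (u : F)⁻¹) * (G x 2 * Gi 2 r) := by
      intro x r hxr
      have hsum : ∑ y, G x y * Gi y r = 0 := by
        rw [← Matrix.mul_apply, hG, hGi, Units.mul_inv, Matrix.one_apply_ne hxr]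
      rw [Fin.sum_univ_three] at hsum
      constructor
      · rw [hh, Units.val_mul, Units.val_mul, dg_val, ← hG, ← hGi, Matrix.mul_apply, Fin.sum_univ_three]
        simp [Matrix.mul_apply, Matrix.vecMul, dotProduct, Fin.sum_univ_three]
        linear_combination (u : F) * hsum
      · rw [hh, _root_.mul_inv_rev, _root_.mul_inv_rev, inv_inv, Units.val_mul, Units.val_mul, dg_inv_val, ← hG, ← hGi,
          Matrix.mul_apply, Fin.sum_univ_three]
        simp [Matrix.mul_apply, Matrix.vecMul, dotProduct, Fin.sum_univ_three]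
        linear_combination (u : F)⁻¹ * hsum
    have hwu : (w : F) - u ≠ 0 := sub_ne_zero.2 fun e => hu (by
      have e' := Units.ext e
      rw [hw, inv_eq_iff_mul_eq_one, ← pow_succ] at e'
      exact e')
    have h01 := (hent 0 1 (by decide)).1
    have h02 := (hent 0 2 (by decide)).1
    have hhm : ¬ Mono h := by
      rintro ⟨π, hπ⟩
      exact absurd (π.injective ((hπ 0 1 (by rw [h01]; exact mul_ne_zero hwu (mul_ne_zero (hne 0 2) (hne' 2 1)))).symm.trans
        (hπ 0 2 (by rw [h02]; exact mul_ne_zero hwu (mul_ne_zero (hne 0 2) (hne' 2 2)))))) (by decide)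
    have hP := three_mul_opp hq hM hMS hno hhM hhm 0 1
    rw [h01, (hent 1 0 (by decide)).2] at hP
    have hu0 := u.ne_zero
    have hw0 := w.ne_zero
    have hprod : 9 * ((G 0 2 * Gi 2 0) * (G 1 2 * Gi 2 1)) = 1 := by
      linear_combination (3 * (G 1 2 * Gi 2 1)) * hopp 0 2 + hopp 1 2
    have hrel : (u : F) ^ 2 + u * w + (w : F) ^ 2 = 0 := by
      field_simp at hP
      linear_combination -3 * hP + ((w : F) - u) * ((u : F) - w) * hprod
    have hwval : (w : F) * (u : F) ^ 2 = 1 := by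
      rw [hw, ← Units.val_pow_eq_pow_val, ← Units.val_mul, inv_mul_cancel, Units.val_one]
    apply Units.ext
    rw [Units.val_pow_eq_pow_val, Units.val_one]
    linear_combination ((u : F) ^ 3 - 1) * ((u : F) ^ 4 * hrel -
      ((u : F) ^ 3 + (w : F) * (u : F) ^ 2 + 1) * hwval)
  have h10 : Fintype.card F ≠ 10 :=
    card_ne_of_two_primes Nat.prime_two (by norm_num : Nat.Prime 5) (by norm_num) (by norm_num) (by norm_num)
  obtain ⟨z, hz⟩ := IsCyclic.exists_ofOrder_eq_natCard (α := Fˣ)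
  have hd := orderOf_dvd_of_pow_eq_one (hkey z)
  rw [hz, Nat.card_units, Nat.card_eq_fintype_card] at hd
  have hle := Nat.le_of_dvd (by norm_num) hd
  obtain ⟨k, hk⟩ : ∃ k, Fintype.card F = k + 1 := ⟨Fintype.card F - 1, by omega⟩
  rw [hk, Nat.add_sub_cancel] at hd hle
  rw [hk] at h10 hq
  interval_cases k <;> omega

end CfsgLib.SLThree.Decomp
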